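import Groth.Agent.Unram.SpecLocal
import Mathlib.AlgebraicGeometry.Fiber
import Mathlib.AlgebraicGeometry.Morphisms.ClosedImmersion

/-!
# Unramified and monomorphisms are fibrewise notions
-/

set_option autoImplicit false

universe u

open CategoryTheory CategoryTheory.Limits AlgebraicGeometry
open scoped TensorProduct

namespace Groth.Agent.UnramFibre

open Groth.Agent.Unram

theorem formallyUnramified_stalkMap_of_baseChange {X Y Y' : Scheme.{u}} (f : X ⟶ Y)
    [LocallyOfFiniteType f] (g : Y' ⟶ Y) (x' : ↑(pullback f g))
    (h : ((pullback.snd f g).stalkMap x').hom.FormallyUnramified) :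
    (f.stalkMap (pullback.fst f g x')).hom.FormallyUnramified := by
  obtain ⟨A, B, T, _, _, _, _, _, jY, jX, jT, jP, q, _, _, _, _, hX, hT, hP1, hP2, rfl⟩ :=
    exists_affine_baseChange f g x'
  have hft : Algebra.FiniteType A B := finiteType_of_affine f (jX := jX) (jY := jY) hX
  let : Algebra B (T ⊗[A] B) := Algebra.TensorProduct.rightAlgebra
  have h1 := (stalkMap_iff_of_comm RingHom.FormallyUnramified.respectsIso (pullback.snd f g)
    (Spec.map (CommRingCat.ofHom (algebraMap T (T ⊗[A] B)))) jP jT hP2 q).1 h
  have : Algebra.IsUnramifiedAt T q.asIdeal := (formallyUnramified_stalkMap_SpecMap_iff T _ q).1 h1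
  have h2 := isUnramifiedAt_of_baseChange (A := A) (B := B) (T := T) q.asIdeal
  let r : PrimeSpectrum B := q.comap Algebra.TensorProduct.includeRight.toRingHom
  have h3 : ((Spec.map (CommRingCat.ofHom (algebraMap A B))).stalkMap r).hom.FormallyUnramified :=
    (formallyUnramified_stalkMap_SpecMap_iff A B r).2 h2
  exact (stalkMap_iff_of_comm' RingHom.FormallyUnramified.respectsIso f
    (Spec.map (CommRingCat.ofHom (algebraMap A B))) jX jY hX
    (jP ≫ pullback.fst f g) (Spec.map (CommRingCat.ofHom Algebra.TensorProduct.includeRight.toRingHom))
    hP1 q).2 h3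

theorem formallyUnramified_stalkMap_of_fibre {X Y : Scheme.{u}} (f : X ⟶ Y)
    [LocallyOfFiniteType f] (x : X) [FormallyUnramified (f.fiberToSpecResidueField (f x))] :
    (f.stalkMap x).hom.FormallyUnramified := by
  have h : x ∈ Set.range (f.fiberι (f x)) := by
    rw [Scheme.Hom.range_fiberι]; rfl
  obtain ⟨x', hx'⟩ := h
  rw [← hx']
  exact formallyUnramified_stalkMap_of_baseChange f _ x'
    (FormallyUnramified.stalkMap (f.fiberToSpecResidueField (f x)) x')

/-- A morphism locally of finite type with formally unramified fibres is formally unramified. -/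
theorem formallyUnramified_of_fibres {X Y : Scheme.{u}} (f : X ⟶ Y) [LocallyOfFiniteType f]
    (h : ∀ y, FormallyUnramified (f.fiberToSpecResidueField y)) : FormallyUnramified f :=
  (formallyUnramified_iff_stalkMap f).2 fun x =>
    have := h (f x)
    formallyUnramified_stalkMap_of_fibre f x

theorem mono_iff_fibres {X Y : Scheme.{u}} (f : X ⟶ Y) [LocallyOfFiniteType f] :
    Mono f ↔ ∀ y : Y, Mono (f.fiberToSpecResidueField y) := by
  constructor
  · intro _ y
    show Mono (pullback.snd f (Y.fromSpecResidueField y))
    infer_instance
  · intro h
    have : FormallyUnramified f := formallyUnramified_of_fibres f fun y => by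
      have := h y
      have : IsIso (pullback.diagonal (f.fiberToSpecResidueField y)) := inferInstance
      infer_instance
    have hsurj : Surjective (pullback.diagonal f) := by
      refine ⟨fun z => ?_⟩
      let y := f (pullback.fst f f z)
      let W := pullback.fst f f ≫ f
      let i := Y.fromSpecResidueField y
      let a : pullback W i ⟶ f.fiber y :=
        pullback.lift (pullback.fst W i ≫ pullback.fst f f) (pullback.snd W i) (by
          rw [Category.assoc]; exact pullback.condition)
      let b : pullback W i ⟶ f.fiber y :=
        pullback.lift (pullback.fst W i ≫ pullback.snd f f) (pullback.snd W i) (by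
          rw [Category.assoc, ← pullback.condition (f := f) (g := f)]; exact pullback.condition)
      have := h y
      have hab : a = b := by
        rw [← cancel_mono (f.fiberToSpecResidueField y)]
        exact (pullback.lift_snd _ _ _).trans (pullback.lift_snd _ _ _).symm
      have hz : z ∈ Set.range (pullback.fst W i) := by
        rw [Scheme.Pullback.range_fst, Scheme.range_fromSpecResidueField]
        rfl
      obtain ⟨w, hw⟩ := hz
      refine ⟨(a ≫ f.fiberι y) w, ?_⟩
      rw [← hw, ← Scheme.Hom.comp_apply]
      refine congrArg (fun (q : pullback W i ⟶ pullback f f) => q w) ?_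
      apply pullback.hom_ext
      · simp only [Category.assoc, pullback.diagonal_fst, Category.comp_id]
        exact pullback.lift_fst _ _ _
      · simp only [Category.assoc, pullback.diagonal_snd, Category.comp_id]
        rw [hab]
        exact pullback.lift_fst _ _ _
    have : IsIso (pullback.diagonal f) := isIso_of_isOpenImmersion_of_opensRange_eq_top _
      (TopologicalSpace.Opens.ext (Set.range_eq_univ.2 hsurj.surj))
    exact (pullback.isIso_diagonal_iff f).1 inferInstance

end Groth.Agent.UnramFibre
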